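import Mathlib

/-!
# Completion of a smooth algebra along a section
-/

set_option autoImplicit false
universe u
open MvPolynomial

namespace Groth.Agent.SmoothSection

variable {R : Type*} [CommRing R] {ι : Type*} {A : Type*} [CommRing A] [Algebra R A]

/-- Approximation by polynomials in generators of `K` modulo `K²`. -/
theorem exists_aeval_approx [Fintype ι] (K : Ideal A) (t : ι → A) (ht : ∀ i, t i ∈ K)
    (h0 : ∀ a : A, ∃ r : R, a - algebraMap R A r ∈ K)
    (h1 : ∀ a ∈ K, ∃ c : ι → R, a - ∑ i, algebraMap R A (c i) * t i ∈ K ^ 2)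
    (n : ℕ) (a : A) : ∃ p : MvPolynomial ι R, a - aeval t p ∈ K ^ n := by
  have step : ∀ k : ℕ, ∀ a ∈ K ^ k, ∃ p : MvPolynomial ι R, a - aeval t p ∈ K ^ (k+1) := by
    intro k
    induction k with
    | zero =>
      intro a _
      obtain ⟨r, hr⟩ := h0 a
      exact ⟨C r, by simpa using hr⟩
    | succ k ih =>
      intro a ha
      rw [pow_succ] at ha
      refine Submodule.mul_induction_on ha (fun x hx y hy => ?_) ?_
      case refine_1 =>
        obtain ⟨p, hp⟩ := ih x hx
        obtain ⟨c, hc⟩ := h1 y hy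
        refine ⟨p * ∑ i, C (c i) * X i, ?_⟩
        have hP : aeval t p ∈ K ^ k := by
          simpa using sub_mem hx (Ideal.pow_le_pow_right (Nat.le_succ k) hp)
        simp only [map_mul, map_sum, aeval_C, aeval_X]
        set Q := ∑ i, algebraMap R A (c i) * t i
        rw [show x * y - aeval t p * Q = (x - aeval t p) * y + aeval t p * (y - Q) by ring]
        refine add_mem ?_ ?_
        · rw [pow_succ _ (k+1)]; exact Ideal.mul_mem_mul hp hy
        · rw [show k + 1 + 1 = k + 2 by rfl, pow_add]; exact Ideal.mul_mem_mul hP hc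
      case refine_2 =>
        rintro x y ⟨p, hp⟩ ⟨q, hq⟩
        exact ⟨p + q, by simpa [add_sub_add_comm] using add_mem hp hq⟩
  induction n generalizing a with
  | zero => exact ⟨0, by simp⟩
  | succ n ih =>
    obtain ⟨p, hp⟩ := ih a
    obtain ⟨q, hq⟩ := step n _ hp
    exact ⟨p + q, by simpa [sub_sub] using hq⟩

/-- An algebra map congruent to the quotient map on variables to second order is congruent to it
to order `k+1` on the `k`th power. -/
theorem apply_sub_mem_pow (K : Ideal A) (f g : MvPolynomial ι R →ₐ[R] A)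
    (hg : ∀ i, g (X i) ∈ K) (h : ∀ i, f (X i) - g (X i) ∈ K ^ 2) (k : ℕ)
    (p : MvPolynomial ι R) (hp : p ∈ idealOfVars ι R ^ k) : f p - g p ∈ K ^ (k+1) := by
  have hf : ∀ i, f (X i) ∈ K := fun i => by
    simpa using add_mem (Ideal.pow_le_self two_ne_zero (h i)) (hg i)
  have hgJ : ∀ k, ∀ p ∈ idealOfVars ι R ^ k, g p ∈ K ^ k := by
    intro k p hp
    have : (idealOfVars ι R ^ k).map g ≤ K ^ k := by
      rw [Ideal.map_pow]
      refine Ideal.pow_right_mono ?_ k
      rw [idealOfVars, Ideal.map_span, Ideal.span_le]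
      rintro _ ⟨_, ⟨i, rfl⟩, rfl⟩
      exact hg i
    exact this (Ideal.mem_map_of_mem _ hp)
  have zero : ∀ p, f p - g p ∈ K := by
    intro p
    induction p using MvPolynomial.induction_on with
    | C r =>
      have e1 : f (C r) = algebraMap R A r := f.commutes r
      have e2 : g (C r) = algebraMap R A r := g.commutes r
      simp [e1, e2]
    | add p q hp hq => simpa [add_sub_add_comm] using add_mem hp hq
    | mul_X p i hp =>
      simp only [map_mul]
      exact sub_mem (Ideal.mul_mem_left _ _ (hf i)) (Ideal.mul_mem_left _ _ (hg i))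
  have one : ∀ p ∈ idealOfVars ι R, f p - g p ∈ K ^ 2 := by
    intro p hp
    induction hp using Submodule.span_induction with
    | mem x hx => obtain ⟨i, rfl⟩ := hx; exact h i
    | zero => simp
    | add x y _ _ hx hy => simpa [add_sub_add_comm] using add_mem hx hy
    | smul a x hx ih =>
      simp only [smul_eq_mul, map_mul]
      rw [show f a * f x - g a * g x = f a * (f x - g x) + (f a - g a) * g x by ring]
      refine add_mem (Ideal.mul_mem_left _ _ ih) ?_
      rw [pow_two]
      exact Ideal.mul_mem_mul (zero a) (by simpa using hgJ 1 x (by simpa using hx))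
  induction k generalizing p with
  | zero => simpa using zero p
  | succ k ih =>
    rw [pow_succ] at hp
    refine Submodule.mul_induction_on hp (fun x hx y hy => ?_) ?_
    case refine_1 =>
      simp only [map_mul]
      have hfy : f y ∈ K := by
        simpa using add_mem (Ideal.pow_le_self two_ne_zero (one y hy))
          (by simpa using hgJ 1 y (by simpa using hy) : g y ∈ K)
      rw [show f x * f y - g x * g y = (f x - g x) * f y + g x * (f y - g y) by ring]
      refine add_mem ?_ ?_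
      · rw [pow_succ _ (k+1)]; exact Ideal.mul_mem_mul (ih x hx) hfy
      · rw [show k + 1 + 1 = k + 2 by rfl, pow_add]
        exact Ideal.mul_mem_mul (hgJ k x hx) (one y hy)
    case refine_2 =>
      intro x y hx hy
      simpa [add_sub_add_comm] using add_mem hx hy

theorem sub_C_constantCoeff_mem (p : MvPolynomial ι R) :
    p - C (constantCoeff p) ∈ idealOfVars ι R := by
  induction p using MvPolynomial.induction_on with
  | C r => simp
  | add p q hp hq => simpa [add_sub_add_comm] using add_mem hp hq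
  | mul_X p i hp =>
    simp only [map_mul, constantCoeff_X, mul_zero, map_zero, sub_zero]
    exact Ideal.mul_mem_left _ _ (Ideal.subset_span ⟨i, rfl⟩)

theorem exists_linear_approx [Fintype ι] (p : MvPolynomial ι R) : ∃ (a : R) (c : ι → R),
    p - (C a + ∑ i, C (c i) * X i) ∈ idealOfVars ι R ^ 2 := by
  classical
  induction p using MvPolynomial.induction_on with
  | C r => exact ⟨r, 0, by simp⟩
  | add p q hp hq =>
    obtain ⟨a, c, hp⟩ := hp
    obtain ⟨b, c', hq⟩ := hq
    refine ⟨a + b, c + c', ?_⟩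
    convert add_mem hp hq using 1
    simp [Finset.sum_add_distrib, add_mul]; ring
  | mul_X p i _ =>
    refine ⟨0, Pi.single i (constantCoeff p), ?_⟩
    rw [Finset.sum_eq_single i (fun j _ hj => by simp [Pi.single_eq_of_ne hj]) (by simp)]
    simp only [map_zero, zero_add, Pi.single_eq_same, ← sub_mul, pow_two]
    exact Ideal.mul_mem_mul (sub_C_constantCoeff_mem p) (Ideal.subset_span ⟨i, rfl⟩)

section

variable {S : Type*} [CommRing S] [Algebra R S] {d : ℕ} (σ : S →ₐ[R] R)

local notation3 "T" n => MvPolynomial (Fin d) R ⧸ (idealOfVars (Fin d) R ^ (n : ℕ))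

theorem exists_gen (e : (RingHom.ker σ.toRingHom).Cotangent ≃ₗ[R] (Fin d → R)) :
    ∃ t : Fin d → S, (∀ i, t i ∈ RingHom.ker σ.toRingHom) ∧
      (∀ a ∈ RingHom.ker σ.toRingHom, ∃ c : Fin d → R,
        a - ∑ i, algebraMap R S (c i) * t i ∈ RingHom.ker σ.toRingHom ^ 2) ∧
      (∀ c : Fin d → R, ∑ i, algebraMap R S (c i) * t i ∈ RingHom.ker σ.toRingHom ^ 2 → c = 0) := by
  classical
  set I := RingHom.ker σ.toRingHom
  choose t ht using fun i => I.toCotangent_surjective (e.symm (Pi.single i 1))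
  have key : ∀ c : Fin d → R, e (I.toCotangent (∑ i, c i • t i)) = c := by
    intro c
    rw [map_sum, map_sum]
    conv_rhs => rw [pi_eq_sum_univ' c]
    refine Finset.sum_congr rfl fun i _ => ?_
    rw [LinearMap.map_smul_of_tower, map_smul, ht, e.apply_symm_apply]
  have val : ∀ c : Fin d → R,
      ((∑ i, c i • t i : I) : S) = ∑ i, algebraMap R S (c i) * (t i : S) := fun c => by
    simp [Algebra.smul_def]
  refine ⟨fun i => t i, fun i => (t i).2, fun a ha => ⟨e (I.toCotangent ⟨a, ha⟩), ?_⟩,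
    fun c hc => ?_⟩
  · have := e.injective (key (e (I.toCotangent ⟨a, ha⟩)))
    rw [← val]
    exact I.toCotangent_eq.1 this.symm
  · rw [← val, ← I.toCotangent_eq_zero] at hc
    simpa [hc] using (key c).symm

theorem sub_algebraMap_mem (a : S) :
    a - algebraMap R S (σ a) ∈ RingHom.ker σ.toRingHom := by
  simp [RingHom.mem_ker]

theorem retract_aeval (t : Fin d → S) (ht : ∀ i, t i ∈ RingHom.ker σ.toRingHom)
    (p : MvPolynomial (Fin d) R) : σ (aeval t p) = constantCoeff p := by
  have : ∀ i, σ (t i) = 0 := fun i => ht i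
  induction p using MvPolynomial.induction_on with
  | C r => simp
  | add p q hp hq => simp [hp, hq]
  | mul_X p i hp => simp [hp, this]

theorem aeval_mem_pow {t : Fin d → S} (ht : ∀ i, t i ∈ RingHom.ker σ.toRingHom)
    (n : ℕ) (p : MvPolynomial (Fin d) R) (hp : p ∈ idealOfVars (Fin d) R ^ n) :
    aeval t p ∈ RingHom.ker σ.toRingHom ^ n := by
  have : (idealOfVars (Fin d) R ^ n).map (aeval t) ≤ RingHom.ker σ.toRingHom ^ n := by
    rw [Ideal.map_pow]
    refine Ideal.pow_right_mono ?_ n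
    rw [idealOfVars, Ideal.map_span, Ideal.span_le]
    rintro _ ⟨_, ⟨i, rfl⟩, rfl⟩
    simpa using ht i
  exact this (Ideal.mem_map_of_mem _ hp)

theorem mem_sq_of_aeval_mem_sq {t : Fin d → S} (ht : ∀ i, t i ∈ RingHom.ker σ.toRingHom)
    (hinj : ∀ c : Fin d → R,
      ∑ i, algebraMap R S (c i) * t i ∈ RingHom.ker σ.toRingHom ^ 2 → c = 0)
    (p : MvPolynomial (Fin d) R) (hp : aeval t p ∈ RingHom.ker σ.toRingHom ^ 2) :
    p ∈ idealOfVars (Fin d) R ^ 2 := by
  obtain ⟨a, c, h⟩ := exists_linear_approx p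
  have h2 := sub_mem hp (aeval_mem_pow σ ht 2 _ h)
  have h2' : aeval t p - aeval t (p - (C a + ∑ i, C (c i) * X i))
      = algebraMap R S a + ∑ i, algebraMap R S (c i) * t i := by simp
  rw [h2'] at h2
  have ha : a = 0 := by
    have hs : ∀ i, σ (t i) = 0 := fun i => ht i
    have := (Ideal.pow_le_self two_ne_zero h2 :)
    simpa [RingHom.mem_ker, hs] using this
  subst ha
  have hc := hinj c (by simpa using h2)
  subst hc
  simpa using h

variable [Algebra.FormallySmooth R S]

theorem mem_pow_of_aeval_mem_pow {t : Fin d → S} (ht : ∀ i, t i ∈ RingHom.ker σ.toRingHom)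
    (hgen : ∀ a ∈ RingHom.ker σ.toRingHom, ∃ c : Fin d → R,
        a - ∑ i, algebraMap R S (c i) * t i ∈ RingHom.ker σ.toRingHom ^ 2)
    (hinj : ∀ c : Fin d → R,
      ∑ i, algebraMap R S (c i) * t i ∈ RingHom.ker σ.toRingHom ^ 2 → c = 0)
    (n : ℕ) (p : MvPolynomial (Fin d) R) (hp : aeval t p ∈ RingHom.ker σ.toRingHom ^ n) :
    p ∈ idealOfVars (Fin d) R ^ n := by
  set I := RingHom.ker σ.toRingHom with hI
  set J := idealOfVars (Fin d) R with hJ
  let β : MvPolynomial (Fin d) R →ₐ[R] S ⧸ I ^ 2 :=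
    (Ideal.Quotient.mkₐ R (I ^ 2)).comp (aeval t)
  have β_surj : Function.Surjective β := fun x => by
    obtain ⟨s, rfl⟩ := Ideal.Quotient.mk_surjective x
    obtain ⟨q, hq⟩ := exists_aeval_approx I t ht (fun a => ⟨σ a, sub_algebraMap_mem σ a⟩) hgen 2 s
    exact ⟨q, (Ideal.Quotient.eq.2 hq).symm⟩
  have β_ker : J ^ 2 = RingHom.ker β := by
    ext q
    rw [RingHom.mem_ker, show β q = Ideal.Quotient.mk (I ^ 2) (aeval t q) from rfl,
      Ideal.Quotient.eq_zero_iff_mem]
    exact ⟨aeval_mem_pow σ ht 2 q, mem_sq_of_aeval_mem_sq σ ht hinj q⟩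
  let E : (MvPolynomial (Fin d) R ⧸ J ^ 2) ≃ₐ[R] S ⧸ I ^ 2 :=
    (Ideal.quotientEquivAlgOfEq R β_ker).trans (Ideal.quotientKerAlgEquivOfSurjective β_surj)
  have E_mk : ∀ q, E (Ideal.Quotient.mk _ q) = Ideal.Quotient.mk (I ^ 2) (aeval t q) :=
    fun q => rfl
  let α2 : S →ₐ[R] MvPolynomial (Fin d) R ⧸ J ^ 2 :=
    E.symm.toAlgHom.comp (Ideal.Quotient.mkₐ R (I ^ 2))
  -- lift to order `n + 2`
  let fac : (MvPolynomial (Fin d) R ⧸ J ^ (n + 2)) →ₐ[R] MvPolynomial (Fin d) R ⧸ J ^ 2 :=
    Ideal.Quotient.factorₐ R (Ideal.pow_le_pow_right (by omega))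
  have fac_surj : Function.Surjective fac :=
    Ideal.Quotient.factor_surjective (Ideal.pow_le_pow_right (by omega))
  have fac_nil : IsNilpotent (RingHom.ker
      (fac : (MvPolynomial (Fin d) R ⧸ J ^ (n + 2)) →+* MvPolynomial (Fin d) R ⧸ J ^ 2)) := by
    refine ⟨n + 2, ?_⟩
    rw [Ideal.zero_eq_bot, eq_bot_iff]
    have hle : RingHom.ker
        (fac : (MvPolynomial (Fin d) R ⧸ J ^ (n + 2)) →+* MvPolynomial (Fin d) R ⧸ J ^ 2)
          ≤ J.map (Ideal.Quotient.mk _) := by
      intro x hx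
      obtain ⟨q, rfl⟩ := Ideal.Quotient.mk_surjective x
      refine Ideal.mem_map_of_mem _ (Ideal.pow_le_self two_ne_zero ?_)
      exact Ideal.Quotient.eq_zero_iff_mem.1 (by simpa [RingHom.mem_ker, fac] using hx)
    refine (Ideal.pow_right_mono hle _).trans ?_
    rw [← Ideal.map_pow, Ideal.map_quotient_self]
  let α : S →ₐ[R] MvPolynomial (Fin d) R ⧸ J ^ (n + 2) :=
    Algebra.FormallySmooth.liftOfSurjective α2 fac fac_surj fac_nil
  have hα : ∀ s, fac (α s) = α2 s := fun s =>
    Algebra.FormallySmooth.liftOfSurjective_apply _ _ _ _ _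
  let K := J.map (Ideal.Quotient.mk (J ^ (n + 2)))
  have α_mem : ∀ s ∈ I, α s ∈ K := by
    intro s hs
    obtain ⟨q, hq⟩ := Ideal.Quotient.mk_surjective (α s)
    rw [← hq]
    refine Ideal.mem_map_of_mem _ ?_
    have h := hα s
    rw [← hq] at h
    have h' : Ideal.Quotient.mk (I ^ 2) (aeval t q) = Ideal.Quotient.mk (I ^ 2) s := by
      rw [← E_mk, show Ideal.Quotient.mk (J ^ 2) q = fac (Ideal.Quotient.mk _ q) from rfl, h]
      exact E.apply_symm_apply _
    have hq0 : σ (aeval t q) = 0 := by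
      have h3 := add_mem (Ideal.pow_le_self two_ne_zero (Ideal.Quotient.eq.1 h')) hs
      exact (sub_add_cancel (aeval t q) s) ▸ h3
    rw [retract_aeval σ t ht] at hq0
    simpa [hq0] using sub_C_constantCoeff_mem q
  have α_pow : ∀ m, ∀ s ∈ I ^ m, α s ∈ K ^ m := by
    intro m s hs
    have : (I ^ m).map α ≤ K ^ m := by
      rw [Ideal.map_pow]
      refine Ideal.pow_right_mono ?_ m
      rw [Ideal.map_le_iff_le_comap]
      exact fun x hx => α_mem x hx
    exact this (Ideal.mem_map_of_mem _ hs)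
  let g := Ideal.Quotient.mkₐ R (J ^ (n + 2))
  let f := α.comp (aeval t)
  have hg : ∀ i, g (X i) ∈ K := fun i => Ideal.mem_map_of_mem _ (Ideal.subset_span ⟨i, rfl⟩)
  have hfg : ∀ i, f (X i) - g (X i) ∈ K ^ 2 := by
    intro i
    obtain ⟨q, hq⟩ := Ideal.Quotient.mk_surjective (f (X i))
    have h1 : Ideal.Quotient.mk (J ^ 2) q = Ideal.Quotient.mk (J ^ 2) (X i) := by
      have h := hα (t i)
      rw [show α (t i) = f (X i) by simp [f], ← hq] at h
      rw [show Ideal.Quotient.mk (J ^ 2) q = fac (Ideal.Quotient.mk _ q) from rfl, h]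
      apply E.injective
      rw [E_mk, aeval_X]
      exact E.apply_symm_apply _
    rw [← hq, show g (X i) = Ideal.Quotient.mk _ (X i) from rfl, ← map_sub, ← Ideal.map_pow]
    exact Ideal.mem_map_of_mem _ (Ideal.Quotient.eq.1 h1)
  have hfp : f p ∈ K ^ n := α_pow n _ hp
  suffices ∀ k ≤ n, p ∈ J ^ k from this n le_rfl
  intro k hk
  induction k with
  | zero => simp
  | succ k ih =>
    have h1 := apply_sub_mem_pow K f g hg hfg k p (ih (by omega))
    have h2 : g p ∈ K ^ (k+1) := by
      simpa using sub_mem (Ideal.pow_le_pow_right hk hfp) h1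
    rw [← Ideal.map_pow] at h2
    obtain ⟨q, hq, hqp⟩ := (Ideal.mem_map_iff_of_surjective _ Ideal.Quotient.mk_surjective).1 h2
    have : q - p ∈ J ^ (n + 2) := Ideal.Quotient.eq.1 hqp
    simpa using sub_mem hq (Ideal.pow_le_pow_right (by omega) this)

omit [Algebra.FormallySmooth R S] in
theorem surjective_mk_aeval {t : Fin d → S} (ht : ∀ i, t i ∈ RingHom.ker σ.toRingHom)
    (hgen : ∀ a ∈ RingHom.ker σ.toRingHom, ∃ c : Fin d → R,
        a - ∑ i, algebraMap R S (c i) * t i ∈ RingHom.ker σ.toRingHom ^ 2) (n : ℕ) :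
    Function.Surjective ((Ideal.Quotient.mkₐ R (RingHom.ker σ.toRingHom ^ n)).comp (aeval t)) :=
  fun x => by
    obtain ⟨s, rfl⟩ := Ideal.Quotient.mk_surjective x
    obtain ⟨q, hq⟩ := exists_aeval_approx _ t ht (fun a => ⟨σ a, sub_algebraMap_mem σ a⟩) hgen n s
    exact ⟨q, (Ideal.Quotient.eq.2 hq).symm⟩

end

section completion

variable {P S : Type*} [CommRing P] [Algebra R P] [CommRing S] [Algebra R S]

theorem factorₐ_evalₐ (J : Ideal P) {m n : ℕ} (hle : m ≤ n) (x : AdicCompletion J P) :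
    Ideal.Quotient.factorₐ R (Ideal.pow_le_pow_right hle) (AdicCompletion.evalₐ J n x)
      = AdicCompletion.evalₐ J m x := by
  induction x using AdicCompletion.induction_on with
  | _ a =>
    rw [AdicCompletion.evalₐ_mk, AdicCompletion.evalₐ_mk]
    exact AdicCompletion.Ideal.mk_eq_mk J hle a

/-- Compatible isomorphisms of all truncations induce an isomorphism of completions. -/
theorem nonempty_adicCompletion_equiv (J : Ideal P) (I : Ideal S)
    (φ : P →ₐ[R] S) (hker : ∀ n p, φ p ∈ I ^ n ↔ p ∈ J ^ n)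
    (hsurj : ∀ n, Function.Surjective ((Ideal.Quotient.mkₐ R (I ^ n)).comp φ)) :
    Nonempty (AdicCompletion J P ≃ₐ[R] AdicCompletion I S) := by
  have hk : ∀ n, J ^ n = RingHom.ker ((Ideal.Quotient.mkₐ R (I ^ n)).comp φ) := fun n => by
    ext p
    simp [RingHom.mem_ker, Ideal.Quotient.eq_zero_iff_mem, hker]
  let E : ∀ n, (P ⧸ J ^ n) ≃ₐ[R] S ⧸ I ^ n := fun n =>
    (Ideal.quotientEquivAlgOfEq R (hk n)).trans
      (Ideal.quotientKerAlgEquivOfSurjective (hsurj n))
  have E_mk : ∀ n p, E n (Ideal.Quotient.mk _ p) = Ideal.Quotient.mk _ (φ p) := fun n p => rfl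
  have E_nat : ∀ {m n} (hle : m ≤ n) (x : P ⧸ J ^ n),
      Ideal.Quotient.factorₐ R (Ideal.pow_le_pow_right hle) (E n x)
        = E m (Ideal.Quotient.factorₐ R (Ideal.pow_le_pow_right hle) x) := by
    intro m n hle x
    obtain ⟨p, rfl⟩ := Ideal.Quotient.mk_surjective x
    rfl
  have hF : ∀ {m n} (hle : m ≤ n), (Ideal.Quotient.factorₐ R (Ideal.pow_le_pow_right hle)).comp
      ((E n).toAlgHom.comp ((AdicCompletion.evalₐ J n).restrictScalars R))
      = (E m).toAlgHom.comp ((AdicCompletion.evalₐ J m).restrictScalars R) := by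
    intro m n hle
    refine AlgHom.ext fun x => ?_
    simp only [AlgHom.comp_apply, AlgHom.restrictScalars_apply, AlgEquiv.coe_toAlgHom]
    rw [E_nat hle, factorₐ_evalₐ J hle]
  have hG : ∀ {m n} (hle : m ≤ n), (Ideal.Quotient.factorₐ R (Ideal.pow_le_pow_right hle)).comp
      ((E n).symm.toAlgHom.comp ((AdicCompletion.evalₐ I n).restrictScalars R))
      = (E m).symm.toAlgHom.comp ((AdicCompletion.evalₐ I m).restrictScalars R) := by
    intro m n hle
    refine AlgHom.ext fun x => ?_
    simp only [AlgHom.comp_apply, AlgHom.restrictScalars_apply, AlgEquiv.coe_toAlgHom]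
    apply (E m).injective
    rw [← E_nat hle, AlgEquiv.apply_symm_apply, AlgEquiv.apply_symm_apply, factorₐ_evalₐ I hle]
  refine ⟨AlgEquiv.ofAlgHom (AdicCompletion.liftAlgHom I _ hF)
    (AdicCompletion.liftAlgHom J _ hG) ?_ ?_⟩
  all_goals
    refine AlgHom.ext fun x => AdicCompletion.ext_evalₐ fun n => ?_
    simp

end completion

theorem nonempty_adicCompletion_equiv_powerSeries {R : Type u} {S : Type*} [CommRing R]
    [CommRing S] [Algebra R S] [Algebra.FormallySmooth R S] (σ : S →ₐ[R] R) (d : ℕ)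
    (e : (RingHom.ker σ.toRingHom).Cotangent ≃ₗ[R] (Fin d → R)) :
    Nonempty (AdicCompletion (RingHom.ker σ.toRingHom) S ≃ₐ[R] MvPowerSeries (Fin d) R) := by
  obtain ⟨t, ht, hgen, hinj⟩ := exists_gen σ e
  obtain ⟨F⟩ := nonempty_adicCompletion_equiv (R := R) (idealOfVars (Fin d) R)
    (RingHom.ker σ.toRingHom) (aeval t)
    (fun n p => ⟨mem_pow_of_aeval_mem_pow σ ht hgen hinj n p, aeval_mem_pow σ ht n p⟩)
    (surjective_mk_aeval σ ht hgen)
  exact ⟨F.symm.trans ((MvPowerSeries.toAdicCompletionAlgEquiv (Fin d) R).restrictScalars R).symm⟩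

end Groth.Agent.SmoothSection
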